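import Cfsg.Agent.Lib.Helper14.OCls.Defs
import Cfsg.Agent.Lib.Helper8.WallInd
import Cfsg.Agent.Lib.Helper40.Semisimple
import Cfsg.Agent.Lib.Helper40.SympWall

set_option autoImplicit false

/-!
# OCLS package (CONJ): isometries of odd order prime to the characteristic with the same
characteristic polynomial are conjugate under an isometry
-/

universe u

namespace Cfsg.Agent.Lib.Helper61.OCls

open Matrix Polynomial Cfsg.Agent.Lib.Helper14.OCls

theorem pkgConj : PkgConj.{u} := by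
  intro F _ _ ι _ _ Q hnd r hr hrF g h hgQ hhQ hg hh hch
  have hsg := Cfsg.Agent.Lib.Helper40.SympWall.isSemisimple_of_pow_eq_one' g r hrF hg
  have hsh := Cfsg.Agent.Lib.Helper40.SympWall.isSemisimple_of_pow_eq_one' h r hrF hh
  obtain ⟨e, he⟩ := Cfsg.Agent.Lib.Helper40.exists_equiv_of_charpoly_eq
    (Module.finrank F (ι → F)) (ι → F) (ι → F) (Matrix.toLin' g) (Matrix.toLin' h) rfl hsg hsh
    (by rw [Matrix.charpoly_toLin', Matrix.charpoly_toLin', hch])
  have hA : (Matrix.toLin' g) ^ r = 1 := by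
    change Matrix.toLinAlgEquiv' g ^ r = 1
    rw [← map_pow, hg, map_one]
  obtain ⟨γ, hγQ, hγ⟩ := Cfsg.Agent.Lib.Helper8.WallInd.conj_core Q hnd (Matrix.toLin' g)
    (Matrix.toLin' h) r hr hrF hA (fun v => by rw [Matrix.toLin'_apply]; exact hgQ v)
    (fun v => by rw [Matrix.toLin'_apply]; exact hhQ v) e he
  refine ⟨LinearMap.toMatrix' (γ : (ι → F) →ₗ[F] (ι → F)),
    LinearMap.toMatrix' (γ.symm : (ι → F) →ₗ[F] (ι → F)), ?_, ?_, ?_⟩
  · rw [← LinearMap.toMatrix'_comp]
    have h1 : (γ : (ι → F) →ₗ[F] (ι → F)).comp (γ.symm : (ι → F) →ₗ[F] (ι → F))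
        = LinearMap.id := by
      apply LinearMap.ext
      intro x
      simp
    rw [h1, LinearMap.toMatrix'_id]
  · intro v
    have h1 : LinearMap.toMatrix' (γ : (ι → F) →ₗ[F] (ι → F)) *ᵥ v = γ v := by
      rw [← Matrix.toLin'_apply, Matrix.toLin'_toMatrix']
      rfl
    rw [h1]
    exact hγQ v
  · have h1 : (γ : (ι → F) →ₗ[F] (ι → F)).comp (Matrix.toLin' g)
        = (Matrix.toLin' h).comp (γ : (ι → F) →ₗ[F] (ι → F)) :=
      LinearMap.ext (fun v => hγ v)
    have h2 := congrArg LinearMap.toMatrix' h1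
    rw [LinearMap.toMatrix'_comp, LinearMap.toMatrix'_comp, LinearMap.toMatrix'_toLin',
      LinearMap.toMatrix'_toLin'] at h2
    exact h2

end Cfsg.Agent.Lib.Helper61.OCls
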