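import Cfsg.Agent.Lib.Helper14.OCls.Defs

set_option autoImplicit false

/-!
# OCLS package (DUAL): the characteristic polynomial of an isometry is self-dual
-/

universe u

namespace Cfsg.Agent.Lib.Helper61.OCls

open Matrix Polynomial Cfsg.Agent.Lib.Helper14.OCls Cfsg.Agent.Lib.Helper40.DualPoly

theorem pkgDual : PkgDual.{u} := by
  intro F _ ι _ _ Q hnd g hg
  obtain ⟨B, hB⟩ : ∃ B : LinearMap.BilinForm F (ι → F), B = QuadraticMap.polarBilin Q := ⟨_, rfl⟩
  have hBinv : ∀ x y, B (g *ᵥ x) (g *ᵥ y) = B x y := by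
    intro x y
    rw [hB]
    show QuadraticMap.polar Q (g *ᵥ x) (g *ᵥ y) = QuadraticMap.polar Q x y
    unfold QuadraticMap.polar
    rw [← Matrix.mulVec_add, hg, hg, hg]
  have hndB : B.Nondegenerate := by rw [hB]; exact hnd
  obtain ⟨J, hJ⟩ : ∃ J : Matrix ι ι F, J = LinearMap.BilinForm.toMatrix' B := ⟨_, rfl⟩
  have hJdet : J.det ≠ 0 := by
    have h1 : J.Nondegenerate := by
      rw [hJ]; exact LinearMap.BilinForm.Nondegenerate.toMatrix' hndB
    exact Matrix.nondegenerate_iff_det_ne_zero.1 h1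
  have hgJ : gᵀ * J * g = J := by
    have h1 : B.comp (Matrix.toLin' g) (Matrix.toLin' g) = B := by
      apply LinearMap.ext₂
      intro x y
      rw [LinearMap.BilinForm.comp_apply, Matrix.toLin'_apply, Matrix.toLin'_apply]
      exact hBinv x y
    have h2 := LinearMap.BilinForm.toMatrix'_comp B (Matrix.toLin' g) (Matrix.toLin' g)
    rw [h1, LinearMap.toMatrix'_toLin', ← hJ] at h2
    exact h2.symm
  have hJu : IsUnit J.det := isUnit_iff_ne_zero.2 hJdet
  have hmul : (J⁻¹ * gᵀ * J) * g = 1 := by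
    calc (J⁻¹ * gᵀ * J) * g = J⁻¹ * (gᵀ * J * g) := by simp only [Matrix.mul_assoc]
      _ = 1 := by rw [hgJ, Matrix.nonsing_inv_mul J hJu]
  have h1 : g * (J⁻¹ * gᵀ * J) = 1 := mul_eq_one_comm.mp hmul
  have h2 : (J⁻¹ * gᵀ * J).charpoly = g.charpoly := by
    calc (J⁻¹ * gᵀ * J).charpoly = (J⁻¹ * (gᵀ * J)).charpoly := by rw [Matrix.mul_assoc]
      _ = ((gᵀ * J) * J⁻¹).charpoly := Matrix.charpoly_mul_comm _ _
      _ = gᵀ.charpoly := by rw [Matrix.mul_assoc, Matrix.mul_nonsing_inv J hJu, Matrix.mul_one]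
      _ = g.charpoly := Matrix.charpoly_transpose g
  have h3 := charpoly_inv_eq g (J⁻¹ * gᵀ * J) h1
  rw [h2] at h3
  unfold dual
  simpa using h3.symm

end Cfsg.Agent.Lib.Helper61.OCls
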