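import Cfsg.Agent.Lib.Helper14.OCls.Defs

set_option autoImplicit false

/-!
# OCLS package (TRANSPORT): transport of an isometry along a similarity of forms
-/

universe u

namespace Cfsg.Agent.Lib.Helper61.OCls

open Matrix Polynomial Cfsg.Agent.Lib.Helper14.OCls

theorem pkgTransport : PkgTransport.{u} := by
  intro F _ κ ι _ _ _ _ Q' Qs c φ hφ M r hM hQ'
  refine ⟨LinearMap.toMatrixAlgEquiv' (φ.conjAlgEquiv F (Matrix.toLinAlgEquiv' M)), ?_, ?_, ?_⟩
  · rw [← map_pow, ← map_pow, ← map_pow, hM, map_one, map_one, map_one]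
  · intro v
    have h1 : (LinearMap.toMatrixAlgEquiv' (φ.conjAlgEquiv F (Matrix.toLinAlgEquiv' M))) *ᵥ v
        = φ (M *ᵥ φ.symm v) := by
      have h2 : Matrix.toLinAlgEquiv' (LinearMap.toMatrixAlgEquiv'
          (φ.conjAlgEquiv F (Matrix.toLinAlgEquiv' M))) v
          = (φ.conjAlgEquiv F (Matrix.toLinAlgEquiv' M)) v := by
        rw [Matrix.toLinAlgEquiv'_toMatrixAlgEquiv']
      exact h2
    rw [h1, hφ, hQ', ← hφ, LinearEquiv.apply_symm_apply]
  · have h2 : (LinearMap.toMatrixAlgEquiv' (φ.conjAlgEquiv F (Matrix.toLinAlgEquiv' M))).charpoly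
        = (φ.conjAlgEquiv F (Matrix.toLinAlgEquiv' M)).charpoly := by
      rw [← Matrix.charpoly_toLin']
      congr 1
      exact Matrix.toLinAlgEquiv'_toMatrixAlgEquiv' _
    rw [h2]
    have h3 : φ.conjAlgEquiv F (Matrix.toLinAlgEquiv' M) = φ.conj (Matrix.toLin' M) := rfl
    rw [h3, LinearEquiv.charpoly_conj, Matrix.charpoly_toLin']

end Cfsg.Agent.Lib.Helper61.OCls
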